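import Cfsg.Agent.SL2Class.Classes

/-!
# In `SL(2, 2^f)` commuting is transitive on non-identity elements
-/

set_option autoImplicit false

namespace Cfsg.Agent.Fg24.CT

open Matrix

variable {F : Type*} [Field F]

private theorem parallel {a b : Matrix (Fin 2) (Fin 2) F} (h : a * b = b * a)
    (hb : b 0 1 ≠ 0 ∨ b 1 0 ≠ 0 ∨ b 0 0 ≠ b 1 1) :
    ∃ k : F, a 0 1 = k * b 0 1 ∧ a 1 0 = k * b 1 0 ∧ a 0 0 - a 1 1 = k * (b 0 0 - b 1 1) := by
  have e00 := congrFun (congrFun h 0) 0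
  have e01 := congrFun (congrFun h 0) 1
  have e10 := congrFun (congrFun h 1) 0
  simp only [Matrix.mul_apply, Fin.sum_univ_two] at e00 e01 e10
  rcases hb with hb | hb | hb
  · refine ⟨a 0 1 / b 0 1, (div_mul_cancel₀ _ hb).symm, ?_, ?_⟩ <;>
      rw [div_mul_eq_mul_div, eq_div_iff hb]
    · linear_combination -e00
    · linear_combination e01
  · refine ⟨a 1 0 / b 1 0, ?_, (div_mul_cancel₀ _ hb).symm, ?_⟩ <;>
      rw [div_mul_eq_mul_div, eq_div_iff hb]
    · linear_combination e00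
    · linear_combination -e10
  · have hb' := sub_ne_zero.mpr hb
    refine ⟨(a 0 0 - a 1 1) / (b 0 0 - b 1 1), ?_, ?_, (div_mul_cancel₀ _ hb').symm⟩ <;>
      rw [div_mul_eq_mul_div, eq_div_iff hb']
    · linear_combination -e01
    · linear_combination e10

theorem sl2_ct (h2 : (2 : F) = 0) {a b c : SpecialLinearGroup (Fin 2) F} (hb : b ≠ 1)
    (hab : Commute a b) (hbc : Commute b c) : Commute a c := by
  have hns : b.1 0 1 ≠ 0 ∨ b.1 1 0 ≠ 0 ∨ b.1 0 0 ≠ b.1 1 1 := by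
    by_contra h
    push Not at h
    obtain ⟨h01, h10, h11⟩ := h
    refine hb (Subtype.ext ?_)
    have hdet := b.2
    rw [Matrix.det_fin_two, h01, h10, h11] at hdet
    have h1 : b.1 1 1 = 1 := by
      have : (b.1 1 1 - 1) * (b.1 1 1 - 1) = 0 := by
        linear_combination hdet - (b.1 1 1 - 1) * h2
      exact sub_eq_zero.mp (mul_self_eq_zero.mp this)
    ext i j
    fin_cases i <;> fin_cases j <;> simp [h01, h10, h11, h1]
  obtain ⟨k, hk1, hk2, hk3⟩ := parallel (congrArg Subtype.val hab.eq) hns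
  obtain ⟨l, hl1, hl2, hl3⟩ := parallel (congrArg Subtype.val hbc.symm.eq) hns
  refine Subtype.ext ?_
  show a.1 * c.1 = c.1 * a.1
  ext i j
  fin_cases i <;> fin_cases j <;>
    simp only [Matrix.mul_apply, Fin.sum_univ_two, Fin.zero_eta, Fin.mk_one, Fin.isValue]
  · rw [hk1, hk2, hl1, hl2]; ring
  · rw [hk1, hl1]; linear_combination (k * b.1 0 1) * -hl3 + (l * b.1 0 1) * hk3
  · rw [hk2, hl2]; linear_combination (k * b.1 1 0) * hl3 - (l * b.1 1 0) * hk3
  · rw [hk1, hk2, hl1, hl2]; ring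

end Cfsg.Agent.Fg24.CT
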