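import Mathlib

/-!
# Counting in groups with commutation-transitive involution centralisers

A group acts on points, each point `p` carries an abelian subgroup `A p` which is the centraliser
of each of its non-trivial elements and contains the involutions fixing `p`; every involution
fixes exactly one point. We derive that a two-point stabiliser is abelian of odd order, acts
regularly on the involutions at either point, is inverted by every involution swapping the two
points and, if it is non-trivial, fixes just these two points.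
-/

set_option autoImplicit false

open Subgroup MulAction

namespace Cfsg.Agent.Fg24.CT

variable {G Ω : Type*} [Group G] [MulAction G Ω]

/-- `t` is an involution. -/
def Inv2 (t : G) : Prop := t ≠ 1 ∧ t * t = 1

theorem Inv2.inv_eq {t : G} (h : Inv2 t) : t⁻¹ = t := inv_eq_of_mul_eq_one_right h.2

theorem Inv2.conj {t : G} (h : Inv2 t) (g : G) : Inv2 (g * t * g⁻¹) :=
  ⟨fun e => h.1 (conj_eq_one_iff.mp e), by
    rw [show g * t * g⁻¹ * (g * t * g⁻¹) = g * (t * t) * g⁻¹ by group, h.2, mul_one, mul_inv_cancel]⟩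

/-- The standing configuration. -/
structure Pts (A : Ω → Subgroup G) : Prop where
  fix : ∀ p, ∀ x ∈ A p, x • p = p
  normal : ∀ p (g : G), g • p = p → ∀ x ∈ A p, g * x * g⁻¹ ∈ A p
  comm : ∀ p, ∀ x ∈ A p, ∀ y ∈ A p, Commute x y
  self : ∀ p, ∀ x ∈ A p, x ≠ 1 → ∀ g : G, Commute g x → g ∈ A p
  invol_mem : ∀ p (t : G), Inv2 t → t • p = p → t ∈ A p
  invol_fix : ∀ t : G, Inv2 t → ∃! p : Ω, t • p = p
  invol_exists : ∃ t : G, Inv2 t
  trans : ∀ p q : Ω, ∃ g : G, g • p = q
  nontriv : ∀ p : Ω, ∃ q : Ω, q ≠ p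
  ct : ∀ a b c : G, b ≠ 1 → Commute a b → Commute b c → Commute a c

/-- The two-point stabiliser. -/
abbrev pair (G : Type*) [Group G] {Ω : Type*} [MulAction G Ω] (p q : Ω) : Subgroup G :=
  stabilizer G p ⊓ stabilizer G q

theorem mem_pair {p q : Ω} {g : G} : g ∈ pair G p q ↔ g • p = p ∧ g • q = q := Iff.rfl

theorem pair_comm (p q : Ω) : pair G p q = pair G q p := inf_comm _ _

/-- The involutions fixing `p`. -/
def invAt (G : Type*) [Group G] {Ω : Type*} [MulAction G Ω] (p : Ω) : Set G :=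
  {t | Inv2 t ∧ t • p = p}

/-- The involutions exchanging `p` and `q`. -/
def swaps (G : Type*) [Group G] {Ω : Type*} [MulAction G Ω] (p q : Ω) : Set G :=
  {w | Inv2 w ∧ w • p = q}

theorem smul_of_swap {p q : Ω} {w : G} (hw : w ∈ swaps G p q) : w • q = p := by
  conv_lhs => rw [← hw.2, smul_smul, hw.1.2, one_smul]

variable {A : Ω → Subgroup G} (hP : Pts A)
include hP

theorem Pts.fix_unique {t : G} (ht : Inv2 t) {p q : Ω} (hp : t • p = p) (hq : t • q = q) :
    p = q := (hP.invol_fix t ht).unique hp hq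

/-- What commutes with an involution fixes its point. -/
theorem Pts.fix_of_commute {t g : G} (ht : Inv2 t) {p : Ω} (hp : t • p = p) (h : Commute g t) :
    g • p = p :=
  hP.fix_unique ht (by rw [smul_smul, ← h.eq, mul_smul, hp]) hp

theorem Pts.invAt_nonempty (p : Ω) : ∃ t : G, t ∈ invAt G p := by
  obtain ⟨t, ht⟩ := hP.invol_exists
  obtain ⟨q, hq, -⟩ := hP.invol_fix t ht
  obtain ⟨g, hg⟩ := hP.trans q p
  exact ⟨g * t * g⁻¹, ht.conj g, by rw [mul_smul, mul_smul, inv_smul_eq_iff.2 hg.symm, hq, hg]⟩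

theorem Pts.card_invAt_eq (p q : Ω) : Nat.card (invAt G p) = Nat.card (invAt G q) := by
  obtain ⟨g, hg⟩ := hP.trans p q
  have hg' : g⁻¹ • q = p := inv_smul_eq_iff.2 hg.symm
  refine Nat.card_congr ((MulAut.conj g).toEquiv.subtypeEquiv fun t => ⟨fun h => ?_, fun h => ?_⟩)
  · exact ⟨h.1.conj g, show (g * t * g⁻¹) • q = q by rw [mul_smul, mul_smul, hg', h.2, hg]⟩
  · have h1 : Inv2 (g⁻¹ * (g * t * g⁻¹) * g⁻¹⁻¹) := h.1.conj g⁻¹
    rw [show g⁻¹ * (g * t * g⁻¹) * g⁻¹⁻¹ = t by group] at h1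
    refine ⟨h1, ?_⟩
    have h2 : (g * t * g⁻¹) • q = q := h.2
    rw [mul_smul, mul_smul, hg', ← eq_inv_smul_iff, hg'] at h2
    exact h2

/-- Involutions at distinct points are carried to one another by exactly one involution. -/
theorem Pts.exists_swap [Finite G] {p q : Ω} (hpq : p ≠ q) {t s : G} (ht : t ∈ invAt G p)
    (hs : s ∈ invAt G q) : ∃ w : G, w ∈ swaps G p q ∧ w * t * w = s := by
  obtain ⟨⟨ht1, htp⟩, hs1, hsq⟩ := And.intro ht hs
  set c := t * s with hc
  have htct : t * c * t = c⁻¹ := by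
    rw [hc, mul_inv_rev, hs1.inv_eq, ht1.inv_eq, ← mul_assoc t t s, ht1.2, one_mul]
  have hpow : ∀ i : ℕ, t * c ^ i * t = (c ^ i)⁻¹ := fun i => by
    have h := conj_pow (a := t) (b := c) (i := i)
    rw [ht1.inv_eq, htct, inv_pow] at h
    exact h.symm
  rcases Nat.even_or_odd' (orderOf c) with ⟨m, hm | hm⟩
  · -- a central involution would fix both points
    exfalso
    have hpos := orderOf_pos c
    have hu1 : c ^ m ≠ 1 := pow_ne_one_of_lt_orderOf (by omega) (by omega)
    have hu2 : c ^ m * c ^ m = 1 := by rw [← pow_add, ← two_mul, ← hm, pow_orderOf_eq_one]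
    have hut : Commute (c ^ m) t := by
      have h1 : t * c ^ m * t = c ^ m := by rw [hpow, inv_eq_of_mul_eq_one_right hu2]
      calc c ^ m * t = t * c ^ m * t * t := by rw [h1]
        _ = t * c ^ m := by rw [mul_assoc (t * c ^ m) t t, ht1.2, mul_one]
    have hus : Commute (c ^ m) s := by
      have h1 : s = t * c := by rw [hc, ← mul_assoc, ht1.2, one_mul]
      rw [h1]
      exact hut.mul_right ((Commute.refl c).pow_left m)
    exact hpq (hP.fix_unique ⟨hu1, hu2⟩ (hP.fix_of_commute ht1 htp hut)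
      (hP.fix_of_commute hs1 hsq hus))
  · set w := c ^ m * t with hw
    have hww : w * w = 1 := by
      rw [hw, show c ^ m * t * (c ^ m * t) = c ^ m * (t * c ^ m * t) by group, hpow, mul_inv_cancel]
    have hwtw : w * t * w = s := by
      have h1 : (c ^ m * c ^ m) * c = 1 := by
        rw [← pow_add, ← pow_succ, ← two_mul, ← hm, pow_orderOf_eq_one]
      have h2 : c ^ m * c ^ m = c⁻¹ := eq_inv_of_mul_eq_one_left h1
      calc w * t * w = c ^ m * (t * t) * (c ^ m * t) := by rw [hw]; group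
        _ = (c ^ m * c ^ m) * t := by rw [ht1.2]; group
        _ = s := by rw [h2, hc, mul_inv_rev, hs1.inv_eq, ht1.inv_eq, mul_assoc, ht1.2, mul_one]
    have hwt : w • p = q := by
      refine hP.fix_unique hs1 ?_ hsq
      rw [← hwtw, smul_smul, mul_assoc (w * t) w w, hww, mul_one, mul_smul, htp]
    refine ⟨w, ⟨⟨fun e => hpq ?_, hww⟩, hwt⟩, hwtw⟩
    rw [← hwt, e, one_smul]

theorem Pts.swap_unique {p q : Ω} (hpq : p ≠ q) {t s w v : G} (ht : t ∈ invAt G p)
    (hs : s ∈ invAt G q) (hw : Inv2 w) (hv : Inv2 v) (ew : w * t * w = s) (ev : v * t * v = s) :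
    w = v := by
  by_contra hne
  set c := v * w with hc
  have hcne : c ≠ 1 := fun e => hne (by rw [← hv.inv_eq]; exact eq_inv_of_mul_eq_one_right e)
  have hct : Commute c t := by
    have h1 : c * t * (w * v) = t := by
      calc c * t * (w * v) = v * (w * t * w) * v := by rw [hc]; group
        _ = v * (v * t * v) * v := by rw [ew, ev]
        _ = (v * v) * t * (v * v) := by group
        _ = t := by rw [hv.2]; group
    calc c * t = c * t * (w * v) * (v * w) := by
          rw [show c * t * (w * v) * (v * w) = c * t * (w * (v * v) * w) by group, hv.2, mul_one,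
            hw.2, mul_one]
      _ = t * c := by rw [h1]
  have hcA : c ∈ A p := hP.self p t (hP.invol_mem p t ht.1 ht.2) ht.1.1 c hct
  have hwc : w * c * w = c⁻¹ := by
    rw [hc, mul_inv_rev, hv.inv_eq, hw.inv_eq, mul_assoc w, mul_assoc v, hw.2, mul_one]
  have h2 : Commute s c⁻¹ := by
    show s * c⁻¹ = c⁻¹ * s
    rw [← ew, ← hwc]
    calc w * t * w * (w * c * w) = w * t * (w * w) * c * w := by group
      _ = w * (t * c) * w := by rw [hw.2]; group
      _ = w * (c * t) * w := by rw [hct.eq]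
      _ = w * c * (w * w) * t * w := by rw [hw.2]; group
      _ = w * c * w * (w * t * w) := by group
  have hsA : s ∈ A p := hP.self p c⁻¹ (inv_mem hcA) (inv_ne_one.mpr hcne) s h2
  exact hpq (hP.fix_unique hs.1 (hP.fix p s hsA) hs.2)

theorem Pts.conj_swap_mem {p q : Ω} {t w : G} (ht : t ∈ invAt G p) (hw : w ∈ swaps G p q) :
    w * t * w ∈ invAt G q := by
  refine ⟨?_, ?_⟩
  · have := ht.1.conj w
    rwa [hw.1.inv_eq] at this
  · rw [mul_smul, mul_smul, smul_of_swap hw, ht.2, hw.2]

theorem Pts.card_swaps [Finite G] {p q : Ω} (hpq : p ≠ q) :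
    Nat.card (swaps G p q) = Nat.card (invAt G q) := by
  obtain ⟨t, ht⟩ := hP.invAt_nonempty p
  refine Nat.card_congr (Equiv.ofBijective (fun w => ⟨(w : G) * t * w, hP.conj_swap_mem ht w.2⟩)
    ⟨fun w v e => Subtype.ext ?_, fun s => ?_⟩)
  · exact hP.swap_unique hpq ht (hP.conj_swap_mem ht v.2) w.2.1 v.2.1 (congrArg Subtype.val e) rfl
  · obtain ⟨w, hw, e⟩ := hP.exists_swap hpq ht s.2
    exact ⟨⟨w, hw⟩, Subtype.ext e⟩

theorem Pts.exists_swap' [Finite G] {p q : Ω} (hpq : p ≠ q) : ∃ w : G, w ∈ swaps G p q := by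
  obtain ⟨t, ht⟩ := hP.invAt_nonempty p
  obtain ⟨s, hs⟩ := hP.invAt_nonempty q
  obtain ⟨w, hw, -⟩ := hP.exists_swap hpq ht hs
  exact ⟨w, hw⟩

/-- The two-point stabiliser meets `A p` trivially. -/
theorem Pts.pair_inf [Finite G] {p q : Ω} (hpq : p ≠ q) {d : G} (hd : d ∈ pair G p q)
    (hdA : d ∈ A p) : d = 1 := by
  obtain ⟨t, ht⟩ := hP.invAt_nonempty p
  obtain ⟨u, hu⟩ := hP.exists_swap' hpq
  have htA : t ∈ A p := hP.invol_mem p t ht.1 ht.2
  have hs := hP.conj_swap_mem ht hu
  have key : ∀ c ∈ A p, Commute (u * t * u) c → c = 1 := fun c hc hcs => by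
    by_contra hc1
    exact hpq (hP.fix_unique hs.1 (hP.fix p _ (hP.self p c hc hc1 _ hcs)) hs.2)
  have huu : ∀ x y : G, u * x * u * (u * y * u) = u * (x * y) * u := fun x y => by
    rw [show u * x * u * (u * y * u) = u * x * (u * u) * y * u by group, hu.1.2]; group
  have hus : ∀ x ∈ A p, Commute (u * t * u) (u * x * u) := fun x hx => by
    show _ * _ = _ * _
    rw [huu, huu, (hP.comm p t htA x hx).eq]
  set e := u * d * u with he
  have hep : e • p = p := by rw [he, mul_smul, mul_smul, hu.2, hd.2, smul_of_swap hu]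
  have heq : e • q = q := by rw [he, mul_smul, mul_smul, smul_of_swap hu, hd.1, hu.2]
  have he' : e⁻¹ = u * d⁻¹ * u := by rw [he]; simp only [mul_inv_rev, hu.1.inv_eq]; group
  have hude : u * e * u = d := by
    rw [he, show u * (u * d * u) * u = (u * u) * d * (u * u) by group, hu.1.2]; group
  have hude' : u * e⁻¹ * u = d⁻¹ := by
    rw [he', show u * (u * d⁻¹ * u) * u = (u * u) * d⁻¹ * (u * u) by group, hu.1.2]; group
  -- the commutator lies in both kernels
  set c := d * e * d⁻¹ * e⁻¹ with hc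
  have hcA : c ∈ A p := by
    rw [hc, show d * e * d⁻¹ * e⁻¹ = d * (e * d⁻¹ * e⁻¹) by group]
    exact mul_mem hdA (hP.normal p e hep _ (inv_mem hdA))
  have hcu : c = u * (e * d * e⁻¹ * d⁻¹) * u := by
    rw [← huu, ← huu, ← huu, hude, hude', ← he']
  have hc1 : c = 1 := key c hcA (by
    rw [hcu]
    exact hus _ (by
      rw [show e * d * e⁻¹ * d⁻¹ = (e * d * e⁻¹) * d⁻¹ by group]
      exact mul_mem (hP.normal p e hep _ hdA) (inv_mem hdA)))
  have hde : Commute e d := by
    rw [hc] at hc1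
    have := eq_inv_of_mul_eq_one_left hc1
    rw [inv_inv] at this
    show e * d = d * e
    calc e * d = (d * e * d⁻¹) * d := by rw [this]
      _ = d * e := by group
  by_contra hd1
  have he1 : e ≠ 1 := fun e1 => hd1 (by rw [← hude, e1, mul_one, hu.1.2])
  exact he1 (key e (hP.self p d hdA hd1 e hde) (hus d hdA))

theorem Pts.eq_one_of_commute [Finite G] {p q : Ω} (hpq : p ≠ q) {d x : G} (hd : d ∈ pair G p q)
    (hx : x ∈ A p) (hx1 : x ≠ 1) (h : Commute d x) : d = 1 :=
  hP.pair_inf hpq hd (hP.self p x hx hx1 d h)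

theorem Pts.conj_mem_invAt {p q : Ω} {d t : G} (hd : d ∈ pair G p q) (ht : t ∈ invAt G p) :
    d * t * d⁻¹ ∈ invAt G p :=
  ⟨ht.1.conj d, by rw [mul_smul, mul_smul, inv_smul_eq_iff.2 hd.1.symm, ht.2, hd.1]⟩

theorem Pts.conj_injective [Finite G] {p q : Ω} (hpq : p ≠ q) {x : G} (hx : x ∈ A p) (hx1 : x ≠ 1) :
    Function.Injective fun d : pair G p q => (d : G) * x * (d : G)⁻¹ := by
  intro d e h
  simp only at h
  have hcomm : Commute ((e : G)⁻¹ * d) x := by
    show (e : G)⁻¹ * d * x = x * ((e : G)⁻¹ * d)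
    calc (e : G)⁻¹ * d * x = (e : G)⁻¹ * (d * x * (d : G)⁻¹) * d := by group
      _ = (e : G)⁻¹ * (e * x * (e : G)⁻¹) * d := by rw [h]
      _ = x * ((e : G)⁻¹ * d) := by group
  exact Subtype.ext (eq_of_inv_mul_eq_one
    (hP.eq_one_of_commute hpq (mul_mem (inv_mem e.2) d.2) hx hx1 hcomm)).symm

theorem Pts.swap_mul_mem {p q : Ω} {w u : G} (hw : w ∈ swaps G p q) (hu : u ∈ swaps G p q) :
    w * u ∈ pair G p q :=
  ⟨show (w * u) • p = p by rw [mul_smul, hu.2, smul_of_swap hw],
    show (w * u) • q = q by rw [mul_smul, smul_of_swap hu, hw.2]⟩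

/-- The two-point stabiliser has as many elements as there are involutions at a point. -/
theorem Pts.card_pair [Finite G] {p q : Ω} (hpq : p ≠ q) :
    Nat.card (pair G p q) = Nat.card (invAt G p) := by
  obtain ⟨t, ht⟩ := hP.invAt_nonempty p
  refine le_antisymm (Nat.card_le_card_of_injective
    (fun d : pair G p q => (⟨_, hP.conj_mem_invAt d.2 ht⟩ : invAt G p)) fun d e h =>
      hP.conj_injective hpq (hP.invol_mem p t ht.1 ht.2) ht.1.1 (congrArg Subtype.val h)) ?_
  rw [hP.card_invAt_eq p q, ← hP.card_swaps hpq]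
  obtain ⟨u, hu⟩ := hP.exists_swap' hpq
  exact Nat.card_le_card_of_injective
    (fun w : swaps G p q => (⟨_, hP.swap_mul_mem w.2 hu⟩ : pair G p q)) fun w v h =>
      Subtype.ext (mul_right_cancel (congrArg Subtype.val h))

theorem Pts.pair_inverted [Finite G] {p q : Ω} (hpq : p ≠ q) {u : G} (hu : u ∈ swaps G p q)
    {d : G} (hd : d ∈ pair G p q) : u * d * u = d⁻¹ := by
  have hbij : Function.Bijective
      (fun w : swaps G p q => (⟨_, hP.swap_mul_mem w.2 hu⟩ : pair G p q)) :=
    (Nat.bijective_iff_injective_and_card _).mpr ⟨fun w v h =>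
      Subtype.ext (mul_right_cancel (congrArg Subtype.val h)), by
      rw [hP.card_swaps hpq, hP.card_pair hpq, hP.card_invAt_eq p q]⟩
  obtain ⟨⟨w, hw⟩, he⟩ := hbij.2 ⟨d, hd⟩
  have he' : w * u = d := congrArg Subtype.val he
  rw [← he', mul_inv_rev, hw.1.inv_eq, hu.1.inv_eq, mul_assoc u, mul_assoc w, hu.1.2, mul_one]

theorem Pts.pair_commute [Finite G] {p q : Ω} (hpq : p ≠ q) {d e : G} (hd : d ∈ pair G p q)
    (he : e ∈ pair G p q) : Commute d e := by
  obtain ⟨u, hu⟩ := hP.exists_swap' hpq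
  have h1 := hP.pair_inverted hpq hu (mul_mem hd he)
  rw [show u * (d * e) * u = (u * d * u) * (u * e * u) by
    rw [show u * d * u * (u * e * u) = u * d * (u * u) * e * u by group, hu.1.2]; group,
    hP.pair_inverted hpq hu hd, hP.pair_inverted hpq hu he, ← mul_inv_rev] at h1
  exact (inv_injective h1).symm

theorem Pts.pair_transitive [Finite G] {p q : Ω} (hpq : p ≠ q) {t s : G} (ht : t ∈ invAt G p)
    (hs : s ∈ invAt G p) : ∃ d ∈ pair G p q, d * t * d⁻¹ = s := by
  have hbij : Function.Bijective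
      (fun d : pair G p q => (⟨_, hP.conj_mem_invAt d.2 ht⟩ : invAt G p)) :=
    (Nat.bijective_iff_injective_and_card _).mpr ⟨fun d e h =>
      hP.conj_injective hpq (hP.invol_mem p t ht.1 ht.2) ht.1.1 (congrArg Subtype.val h),
      hP.card_pair hpq⟩
  obtain ⟨d, hd⟩ := hbij.2 ⟨s, hs⟩
  exact ⟨d, d.2, congrArg Subtype.val hd⟩

theorem Pts.odd_pair [Finite G] {p q : Ω} (hpq : p ≠ q) : Odd (Nat.card (pair G p q)) := by
  by_contra h
  obtain ⟨d, hd⟩ := exists_prime_orderOf_dvd_card' (G := pair G p q) 2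
    (even_iff_two_dvd.mp (Nat.not_odd_iff_even.mp h))
  have hd' : orderOf (d : G) = 2 := by rwa [Subgroup.orderOf_coe]
  have hinv : Inv2 (d : G) := ⟨fun e => by simp [e] at hd',
    by rw [← pow_two, ← hd', pow_orderOf_eq_one]⟩
  exact hpq (hP.fix_unique hinv d.2.1 d.2.2)

theorem Pts.pair_sq_ne_one [Finite G] {p q : Ω} (hpq : p ≠ q) {d : G} (hd : d ∈ pair G p q)
    (hd1 : d ≠ 1) : d * d ≠ 1 := fun h => hpq (hP.fix_unique ⟨hd1, h⟩ hd.1 hd.2)

/-- `G_p = A_p D`. -/
theorem Pts.exists_eq_mul [Finite G] {p q : Ω} (hpq : p ≠ q) {h : G} (hh : h • p = p) :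
    ∃ α ∈ A p, ∃ d ∈ pair G p q, h = α * d := by
  obtain ⟨t, ht⟩ := hP.invAt_nonempty p
  obtain ⟨d, hd, hdt⟩ := hP.pair_transitive hpq ht
    (s := h * t * h⁻¹) ⟨ht.1.conj h, by rw [mul_smul, mul_smul, inv_smul_eq_iff.2 hh.symm, ht.2, hh]⟩
  refine ⟨h * d⁻¹, ?_, d, hd, by group⟩
  have hc : Commute (d⁻¹ * h) t := by
    show d⁻¹ * h * t = t * (d⁻¹ * h)
    calc d⁻¹ * h * t = d⁻¹ * (h * t * h⁻¹) * h := by group
      _ = d⁻¹ * (d * t * d⁻¹) * h := by rw [hdt]
      _ = t * (d⁻¹ * h) := by group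
  have h1 := hP.normal p d hd.1 _ (hP.self p t (hP.invol_mem p t ht.1 ht.2) ht.1.1 _ hc)
  rwa [show d * (d⁻¹ * h) * d⁻¹ = h * d⁻¹ by group] at h1

theorem Pts.centralizer_pair [Finite G] {p q : Ω} (hpq : p ≠ q) {d g : G} (hd : d ∈ pair G p q)
    (hd1 : d ≠ 1) (hg : g • p = p) (hc : Commute g d) : g ∈ pair G p q := by
  obtain ⟨α, hα, e, he, rfl⟩ := hP.exists_eq_mul hpq hg
  have hαd : Commute α d := by
    have := hc.mul_left (hP.pair_commute hpq (inv_mem he) hd)
    rwa [mul_inv_cancel_right] at this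
  by_cases hα1 : α = 1
  · rwa [hα1, one_mul]
  · exact absurd (hP.eq_one_of_commute hpq hd hα hα1 hαd.symm) hd1

/-- Every element fixing `p` outside `A p` is conjugate under `A p` into the two-point
stabiliser. -/
theorem Pts.exists_conj [Finite G] {p q : Ω} (hpq : p ≠ q) {h : G} (hh : h • p = p)
    (hA : h ∉ A p) : ∃ α ∈ A p, ∃ d ∈ pair G p q, d ≠ 1 ∧ h = α * d * α⁻¹ := by
  obtain ⟨α₀, hα₀, d, hd, rfl⟩ := hP.exists_eq_mul hpq hh
  have hd1 : d ≠ 1 := fun e => hA (by rwa [e, mul_one])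
  let f : A p → A p := fun α => ⟨α * (d * (α : G)⁻¹ * d⁻¹),
    mul_mem α.2 (hP.normal p d hd.1 _ (inv_mem α.2))⟩
  have hinj : Function.Injective f := by
    intro α β e
    have e' : (α : G) * d * (α : G)⁻¹ = β * d * (β : G)⁻¹ := by
      have := congrArg (fun x : A p => (x : G) * d) e
      simp only [f] at this
      calc (α : G) * d * (α : G)⁻¹ = α * (d * (α : G)⁻¹ * d⁻¹) * d := by group
        _ = β * (d * (β : G)⁻¹ * d⁻¹) * d := this
        _ = β * d * (β : G)⁻¹ := by group
    have hc : Commute ((β : G)⁻¹ * α) d := by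
      show (β : G)⁻¹ * α * d = d * ((β : G)⁻¹ * α)
      calc (β : G)⁻¹ * α * d = (β : G)⁻¹ * (α * d * (α : G)⁻¹) * α := by group
        _ = (β : G)⁻¹ * (β * d * (β : G)⁻¹) * α := by rw [e']
        _ = d * ((β : G)⁻¹ * α) := by group
    by_contra hne
    refine hd1 (hP.eq_one_of_commute hpq hd (mul_mem (inv_mem β.2) α.2) (fun h1 => hne ?_) hc.symm)
    exact Subtype.ext (eq_of_inv_mul_eq_one h1).symm
  obtain ⟨α, hα⟩ := Finite.injective_iff_surjective.mp hinj ⟨α₀, hα₀⟩
  refine ⟨α, α.2, d, hd, hd1, ?_⟩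
  have := congrArg Subtype.val hα
  simp only [f] at this
  rw [← this]
  group

/-- The two-point stabiliser is the stabiliser of any pair of its fixed points with the same
first point. -/
theorem Pts.pair_eq [Finite G] {p q r : Ω} (hpq : p ≠ q) (hrp : r ≠ p) {d : G}
    (hd : d ∈ pair G p q) (hd1 : d ≠ 1) (hr : d • r = r) : pair G p r = pair G p q :=
  Subgroup.eq_of_le_of_card_ge
    (fun g hg => hP.centralizer_pair hpq hd hd1 hg.1
      (hP.pair_commute hrp.symm hg (mem_pair.mpr ⟨hd.1, hr⟩)))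
    (by rw [hP.card_pair hpq, hP.card_pair hrp.symm])

theorem Pts.fixed_of_fixed [Finite G] {p q r : Ω} (hpq : p ≠ q) {d : G} (hd : d ∈ pair G p q)
    (hd1 : d ≠ 1) (hr : d • r = r) : ∀ e ∈ pair G p q, e • r = r := by
  intro e he
  by_cases hrp : r = p
  · rw [hrp]; exact he.1
  · rw [← hP.pair_eq hpq hrp hd hd1 hr] at he
    exact he.2

/-- **A non-trivial two-point stabiliser fixes just two points.** -/
theorem Pts.fixed_eq [Finite G] [Finite Ω] {p q : Ω} (hpq : p ≠ q) {d : G} (hd : d ∈ pair G p q)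
    (hd1 : d ≠ 1) {r : Ω} (hr : d • r = r) : r = p ∨ r = q := by
  classical
  by_contra hcon
  push Not at hcon
  set j := Nat.card (pair G p q) with hj
  have hjpos : 0 < j := Nat.card_pos
  let F : Set Ω := {y | d • y = y}
  let C : Subgroup G := centralizer ({d} : Set G)
  have hCmem : ∀ g : G, g ∈ C ↔ Commute g d := fun g => mem_centralizer_singleton_iff
  have hpair : ∀ y ∈ F, ∀ g ∈ C, g • y = y → g ∈ pair G p q := fun y hy g hg hgy => by
    by_cases hyp : y = p
    · exact hP.centralizer_pair hpq hd hd1 (hyp ▸ hgy) ((hCmem g).mp hg)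
    · rw [← hP.pair_eq hpq hyp hd hd1 hy, pair_comm]
      exact hP.centralizer_pair hyp (mem_pair.mpr ⟨hy, hd.1⟩) hd1 hgy ((hCmem g).mp hg)
  obtain ⟨u, hu⟩ := hP.exists_swap' hpq
  have hud : u * d * u = d⁻¹ := hP.pair_inverted hpq hu hd
  let I : Set G := {w | Inv2 w ∧ w * d * w = d⁻¹}
  -- each of the involutions inverting `d` inverts the whole centraliser
  have hinvC : ∀ w ∈ I, ∀ g ∈ C, w * g * w = g⁻¹ := by
    rintro w ⟨hw, hwd⟩ g hg
    have hcomm : ∀ x y : G, Commute x d → Commute y d → Commute x y := fun x y hx hy =>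
      hP.ct x d y hd1 hx hy.symm
    have hgd : Commute g d := (hCmem g).mp hg
    have hwg : Commute (w * g * w) d := by
      have h1 : Commute (w * g * w⁻¹) (w * d * w⁻¹) := by
        have := hgd.map (MulAut.conj w).toMonoidHom
        simpa using this
      rw [hw.inv_eq, hwd] at h1
      simpa using h1.inv_right
    have hgw : Commute g (w * g * w) := hcomm _ _ hgd hwg
    set c := g * (w * g * w) with hc
    have hwc : Commute w c := by
      show w * c = c * w
      calc w * c = w * g * w * g * w := by rw [hc]; group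
        _ = (w * g * w) * g * w := by group
        _ = c * w := by rw [← hgw.eq, hc]
    have hc1 : c = 1 := by
      by_contra hc1
      have h2 : Commute w d := hP.ct w c d hc1 hwc (hgd.mul_left hwg)
      have h3 : w * d * w = d := by rw [h2.eq, mul_assoc, hw.2, mul_one]
      exact hP.pair_sq_ne_one hpq hd hd1 (by
        nth_rewrite 1 [show d = d⁻¹ by rw [← hwd, h3]]
        exact inv_mul_cancel d)
    exact eq_inv_of_mul_eq_one_right hc1
  have hI_F : ∀ w ∈ I, w • p ∈ F ∧ w • p ≠ p := by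
    rintro w ⟨hw, hwd⟩
    have e : d * w = w * d⁻¹ := by
      rw [← hwd, show w * (w * d * w) = (w * w) * d * w by group, hw.2, one_mul]
    refine ⟨show d • w • p = w • p by
      rw [smul_smul, e, mul_smul, inv_smul_eq_iff.2 hd.1.symm], fun hwp => ?_⟩
    have hA : w * (d * w * d⁻¹) ∈ A p :=
      mul_mem (hP.invol_mem p w hw hwp) (hP.normal p d hd.1 _ (hP.invol_mem p w hw hwp))
    rw [show w * (d * w * d⁻¹) = (w * d * w) * d⁻¹ by group, hwd] at hA
    have := hP.pair_inf hpq (mul_mem (inv_mem hd) (inv_mem hd)) hA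
    exact hP.pair_sq_ne_one hpq hd hd1 (by rwa [← mul_inv_rev, inv_eq_one] at this)
  -- count them by image
  have hI1 : Nat.card I = (Nat.card F - 1) * j := by
    let f : I → {y : Ω // y ∈ F ∧ y ≠ p} := fun w => ⟨(w : G) • p, hI_F w w.2⟩
    have := Fintype.ofFinite {y : Ω // y ∈ F ∧ y ≠ p}
    have hfib : ∀ y, Nat.card {w : I // f w = y} = j := by
      rintro ⟨y, hy, hyp⟩
      have e : j = Nat.card (swaps G p y) := by
        rw [hP.card_swaps hyp.symm, hj, hP.card_pair hpq, hP.card_invAt_eq]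
      rw [e]
      refine Nat.card_congr
        { toFun := fun w => ⟨(w.1 : G), w.1.2.1, congrArg Subtype.val w.2⟩
          invFun := fun w => ⟨⟨w.1, w.2.1, hP.pair_inverted hyp.symm w.2
            (mem_pair.mpr ⟨hd.1, hy⟩)⟩, Subtype.ext w.2.2⟩
          left_inv := fun w => rfl
          right_inv := fun w => rfl }
    rw [Nat.card_congr (Equiv.sigmaFiberEquiv f).symm, Nat.card_sigma, Finset.sum_congr rfl
      (fun y _ => hfib y), Finset.sum_const, smul_eq_mul, Finset.card_univ, ← Nat.card_eq_fintype_card]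
    congr 1
    rw [Nat.card_coe_set_eq F, ← Set.ncard_sdiff_singleton_of_mem (show p ∈ F from hd.1),
      ← Nat.card_coe_set_eq]
    exact Nat.card_congr (Equiv.subtypeEquivRight fun y => by simp)
  -- and as a coset of the centraliser
  have hI2 : Nat.card I = Nat.card C := by
    have huI : u ∈ I := ⟨hu.1, hud⟩
    refine Nat.card_congr
      { toFun := fun w => ⟨(w : G) * u, ?_⟩
        invFun := fun g => ⟨(g : G) * u, ?_, ?_⟩
        left_inv := fun w => Subtype.ext (by simp [mul_assoc, hu.1.2])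
        right_inv := fun g => Subtype.ext (by simp [mul_assoc, hu.1.2]) }
    · rw [hCmem]
      show (w : G) * u * d = d * (w * u)
      have e1 : u * d = d⁻¹ * u := by rw [← hud, mul_assoc, hu.1.2, mul_one]
      have e2 : (w : G) * d⁻¹ = d * w := by
        rw [← w.2.2, show (w : G) * (w * d * w) = (w * w) * d * w by group, w.2.1.2, one_mul]
      rw [mul_assoc, e1, ← mul_assoc, e2, mul_assoc]
    · refine ⟨fun e => ?_, ?_⟩
      · have huC : Commute u d := by
          have : (g : G) = u⁻¹ := eq_inv_of_mul_eq_one_left e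
          rw [hu.1.inv_eq] at this
          rw [← this]; exact (hCmem g).mp g.2
        exact hP.pair_sq_ne_one hpq hd hd1 (by
          nth_rewrite 1 [show d = d⁻¹ by rw [← hud, huC.eq, mul_assoc, hu.1.2, mul_one]]
          exact inv_mul_cancel d)
      · have h1 := hinvC u huI g g.2
        rw [show (g : G) * u * (g * u) = g * (u * g * u) by group, h1, mul_inv_cancel]
    · show (g : G) * u * d * (g * u) = d⁻¹
      have h1 := hinvC u huI g g.2
      have h2 : Commute (g : G) d := (hCmem g).mp g.2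
      calc (g : G) * u * d * (g * u) = g * (u * (g * d) * u) := by rw [h2.eq]; group
        _ = g * ((u * g * u) * (u * d * u)) := by
          rw [show u * g * u * (u * d * u) = u * g * (u * u) * d * u by group, hu.1.2]; group
        _ = d⁻¹ := by rw [h1, hud]; group
  have hF3 : 3 ≤ Nat.card F := by
    have : ({p, q, r} : Set Ω).ncard ≤ F.ncard := Set.ncard_le_ncard (by
      rintro x (rfl | rfl | rfl)
      exacts [hd.1, hd.2, hr])
    rw [Set.ncard_eq_three.mpr ⟨p, q, r, hpq, hcon.1.symm, hcon.2.symm, rfl⟩,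
      ← Nat.card_coe_set_eq] at this
    exact this
  -- the orbits of the centraliser on the fixed points are too big
  have horb : ∀ y ∈ F, (orbit C y).ncard = Nat.card F - 1 ∧ orbit C y ⊆ F := fun y hy => by
    refine ⟨?_, ?_⟩
    · have hst : Nat.card (stabilizer C y) = j := by
        refine Nat.card_congr
          { toFun := fun g => ⟨((g : C) : G), hpair y hy _ (g : C).2 g.2⟩
            invFun := fun e => ⟨⟨e.1, (hCmem _).mpr (hP.pair_commute hpq e.2 hd)⟩,
              hP.fixed_of_fixed hpq hd hd1 hy e.1 e.2⟩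
            left_inv := fun g => rfl
            right_inv := fun e => rfl }
      have h := (stabilizer C y).index_mul_card
      rw [index_stabilizer, hst, ← hI2, hI1] at h
      exact Nat.eq_of_mul_eq_mul_right hjpos h
    · rintro _ ⟨⟨g, hg⟩, rfl⟩
      show d • g • y = g • y
      rw [smul_smul, ← ((hCmem g).mp hg).eq, mul_smul, show d • y = y from hy]
  obtain ⟨h1, hsub1⟩ := horb p hd.1
  obtain ⟨y, hyF, hy⟩ := Set.exists_mem_notMem_of_ncard_lt_ncard
    (s := orbit C p) (t := F) (by rw [h1, ← Nat.card_coe_set_eq]; omega)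
  obtain ⟨h2, hsub2⟩ := horb y hyF
  have hdisj : Disjoint (orbit C y) (orbit C p) :=
    Set.disjoint_left.mpr fun z hz hz' => hy (by
      rw [← orbit_eq_iff.mpr hz', orbit_eq_iff.mpr hz]; exact mem_orbit_self y)
  have := Set.ncard_le_ncard (Set.union_subset hsub2 hsub1)
  rw [Set.ncard_union_eq hdisj (Set.toFinite _) (Set.toFinite _), h1, h2,
    ← Nat.card_coe_set_eq] at this
  omega

theorem Pts.three [Finite G] [Finite Ω] {g : G} {p q r : Ω} (hpq : p ≠ q) (hrp : r ≠ p)
    (hrq : r ≠ q) (hp : g • p = p) (hq : g • q = q) (hr : g • r = r) : g = 1 := by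
  by_contra h1
  rcases hP.fixed_eq hpq (mem_pair.mpr ⟨hp, hq⟩) h1 hr with h | h
  exacts [hrp h, hrq h]

/-- If two-point stabilisers are non-trivial then `A p` is regular on the other points. -/
theorem Pts.regular [Finite G] [Finite Ω] {p q r : Ω} (hpq : p ≠ q) (hrp : r ≠ p)
    (hj : Nat.card (pair G p q) ≠ 1) : ∃! α : A p, (α : G) • q = r := by
  refine existsUnique_of_exists_of_unique ?_ ?_
  · have hne : pair G p r ≠ ⊥ := fun h => hj (by
      rw [hP.card_pair hpq, ← hP.card_pair hrp.symm, h, Subgroup.card_bot])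
    obtain ⟨⟨h, hh⟩, hh0⟩ := Subgroup.ne_bot_iff_exists_ne_one.mp hne
    have hh1 : h ≠ 1 := fun e => hh0 (Subtype.ext e)
    obtain ⟨α, hα, d, hd, -, e⟩ := hP.exists_conj hpq hh.1
      fun hA => hh1 (hP.pair_inf hrp.symm hh hA)
    have hq : h • α • q = α • q := by
      rw [smul_smul, e, inv_mul_cancel_right, mul_smul, hd.2]
    refine ⟨⟨α, hα⟩, (hP.fixed_eq hrp.symm hh hh1 hq).resolve_left fun hp => hpq ?_⟩
    exact (MulAction.injective α (hp.trans (hP.fix p α hα).symm)).symm
  · intro α β hα hβ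
    have hmem : ((β : G)⁻¹ * α) ∈ pair G p q :=
      ⟨hP.fix p _ (mul_mem (inv_mem β.2) α.2), show ((β : G)⁻¹ * α) • q = q by
        rw [mul_smul, hα, ← hβ, inv_smul_smul]⟩
    exact Subtype.ext (eq_of_inv_mul_eq_one
      (hP.pair_inf hpq hmem (mul_mem (inv_mem β.2) α.2))).symm

end Cfsg.Agent.Fg24.CT
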